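import Groth.Agent.Hensel.LocalPiece
import Groth.Prelude.Def_SGA1
import Mathlib.AlgebraicGeometry.Morphisms.Finite
import Mathlib.AlgebraicGeometry.Morphisms.QuasiFinite
import Mathlib.AlgebraicGeometry.Morphisms.Proper
import Mathlib.AlgebraicGeometry.PullbackCarrier
import Mathlib.RingTheory.AdicCompletion.Basic

/-!
# Morphisms of finite type over a henselian local ring with finite closed fibre
-/

set_option autoImplicit false
set_option backward.isDefEq.respectTransparency false

universe u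

open CategoryTheory CategoryTheory.Limits AlgebraicGeometry IsLocalRing

namespace Groth.Agent.SubmFinFibre

variable {A : Type u} [CommRing A] [HenselianLocalRing A] {X : Scheme.{u}}
  (g : X ⟶ Spec (CommRingCat.of A)) [LocallyOfFiniteType g]

/-- At a point of a finite closed fibre the morphism is quasi-finite. -/
theorem quasiFiniteAt_of_finite_fibre (y : ↥(Spec (CommRingCat.of A))) (h : (g.base ⁻¹' {y}).Finite)
    (x : X) (hx : g x = y) : g.QuasiFiniteAt x := by
  subst hx
  haveI : LocallyOfFiniteType (g.fiberToSpecResidueField (g x)) :=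
    inferInstanceAs (LocallyOfFiniteType (pullback.snd g _))
  haveI : JacobsonSpace (g.fiber (g x)) := LocallyOfFiniteType.jacobsonSpace (g.fiberToSpecResidueField (g x))
  haveI : Finite (g.fiber (g x)) := haveI := h.to_subtype; Finite.of_equiv _ (g.fiberHomeo (g x)).symm.toEquiv
  rw [Scheme.Hom.quasiFiniteAt_iff_isOpen_singleton_asFiber]
  exact isOpen_discrete _

/-- Through every point of the closed fibre: a finite scheme over the base covering all generisations. -/
theorem exists_finite_cover (h : (g.base ⁻¹' {closedPoint A}).Finite) (s : X) (hs : g s = closedPoint A) :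
    ∃ (T : Scheme.{u}) (j : T ⟶ X), IsFinite (j ≫ g) ∧ ∀ t : X, t ⤳ s → t ∈ Set.range j := by
  obtain ⟨W, hW, hsW, -⟩ := exists_isAffineOpen_mem_and_subset (X := X) (x := s) (U := ⊤) trivial
  let ψ' := g.appLE ⊤ W le_top
  let e := (Scheme.ΓSpecIso (CommRingCat.of A)).inv
  letI : Algebra A Γ(X, W) := (e ≫ ψ').hom.toAlgebra
  have hfac : Spec.map (e ≫ ψ') = hW.fromSpec ≫ g := by
    rw [← IsAffineOpen.SpecMap_appLE_fromSpec g (isAffineOpen_top _) hW le_top, Spec.map_comp,
      IsAffineOpen.fromSpec_top, Scheme.isoSpec_Spec_inv]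
  haveI : Algebra.FiniteType A Γ(X, W) := by
    have h1 : (e ≫ ψ').hom.FiniteType := by
      rw [← HasRingHomProperty.Spec_iff (P := @LocallyOfFiniteType), hfac]; infer_instance
    exact h1
  let q := hW.primeIdealOf ⟨s, hsW⟩
  have hqs : hW.fromSpec q = s := hW.fromSpec_primeIdealOf _
  haveI : q.asIdeal.LiesOver (maximalIdeal A) := ⟨by
    have h1 : Spec.map (e ≫ ψ') q = closedPoint A := by rw [hfac, Scheme.Hom.comp_apply, hqs, hs]
    exact (congrArg PrimeSpectrum.asIdeal h1).symm⟩
  haveI : Algebra.QuasiFiniteAt A q.asIdeal := by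
    have h1 : ψ'.hom.QuasiFiniteAt q.asIdeal :=
      (quasiFiniteAt_of_finite_fibre g _ h s hs).quasiFiniteAt hW (isAffineOpen_top _) le_top hsW
    have h2 : e.hom.QuasiFinite :=
      .of_finite (RingHom.Finite.of_surjective _ (Scheme.ΓSpecIso (CommRingCat.of A)).symm.commRingCatIsoToRingEquiv.surjective)
    letI := ψ'.hom.toAlgebra
    rw [RingHom.QuasiFiniteAt, Algebra.QuasiFiniteAt, ← RingHom.quasiFinite_algebraMap] at h1
    rw [Algebra.QuasiFiniteAt, ← RingHom.quasiFinite_algebraMap]
    exact h1.comp h2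
  let L := Localization.AtPrime q.asIdeal
  haveI : Module.Finite A L := Hensel.finite_atPrime A Γ(X, W) q.asIdeal
  refine ⟨Spec (CommRingCat.of L), Spec.map (CommRingCat.ofHom (algebraMap Γ(X, W) L)) ≫ hW.fromSpec, ?_, ?_⟩
  · rw [Category.assoc, ← hfac, ← Spec.map_comp, IsFinite.SpecMap_iff]
    exact RingHom.finite_algebraMap.mpr ‹Module.Finite A L›
  · intro t ht
    have htW : t ∈ W := ht.mem_open W.2 hsW
    have hp : hW.primeIdealOf ⟨t, htW⟩ ⤳ q :=
      hW.fromSpec.isOpenEmbedding.isInducing.specializes_iff.1 (by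
        rw [hW.fromSpec_primeIdealOf, hqs]; exact ht)
    have hle : (hW.primeIdealOf ⟨t, htW⟩).asIdeal ≤ q.asIdeal :=
      (PrimeSpectrum.le_iff_specializes _ _).2 hp
    obtain ⟨P, hP⟩ : hW.primeIdealOf ⟨t, htW⟩ ∈ Set.range (PrimeSpectrum.comap (algebraMap Γ(X, W) L)) := by
      rw [PrimeSpectrum.localization_comap_range L q.asIdeal.primeCompl]
      exact Set.disjoint_left.2 fun a ha hat => ha (hle hat)
    refine ⟨P, ?_⟩
    rw [Scheme.Hom.comp_apply]
    exact (congrArg hW.fromSpec hP).trans (hW.fromSpec_primeIdealOf _)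

/-- Finite closed fibre met by the closure of every point: universally submersive. -/
theorem univSubmersive [Surjective g] (h : (g.base ⁻¹' {closedPoint A}).Finite)
    (hsp : ∀ t : X, ∃ s : X, g.base s = closedPoint A ∧ t ⤳ s) : SGA1.UnivSubmersive g := by
  choose T j hfin hrange using fun s : g.base ⁻¹' {closedPoint A} => exists_finite_cover g h s.1 s.2
  haveI := h.to_subtype
  intro P Y a b g' H
  haveI : Surjective g' := MorphismProperty.of_isPullback (P := @Surjective) H.flip ‹_›
  refine Topology.isQuotientMap_iff_isClosed.2 ⟨g'.surjective, fun C => ⟨fun hC => hC.preimage g'.continuous, fun hC => ?_⟩⟩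
  let p₁ := fun s => pullback.fst (j s ≫ g) b
  let p₂ := fun s => pullback.snd (j s ≫ g) b
  have hp : ∀ s, (p₁ s ≫ j s) ≫ g = p₂ s ≫ b := fun s => by
    rw [Category.assoc]; exact pullback.condition
  let l := fun s => H.flip.lift (p₁ s ≫ j s) (p₂ s) (hp s)
  have hl : ∀ s, l s ≫ g' = p₂ s := fun s => H.flip.lift_snd _ _ _
  have hcl : ∀ s, IsClosed (p₂ s '' (p₂ s ⁻¹' C)) := fun s => by
    haveI := hfin s
    haveI : UniversallyClosed (p₂ s) :=
      MorphismProperty.pullback_snd (P := @UniversallyClosed) _ _ inferInstance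
    refine (p₂ s).isClosedMap _ ?_
    rw [← hl s]
    exact hC.preimage (l s).continuous
  convert isClosed_iUnion_of_finite hcl
  ext y
  refine ⟨fun hy => ?_, fun hy => ?_⟩
  · obtain ⟨t, ht⟩ := g.surjective (b y)
    obtain ⟨s, hs, hts⟩ := hsp t
    obtain ⟨τ, hτ⟩ := hrange ⟨s, hs⟩ t hts
    obtain ⟨z, -, hz⟩ := Scheme.Pullback.exists_preimage_pullback (f := j ⟨s, hs⟩ ≫ g) (g := b) τ y
      (by rw [Scheme.Hom.comp_apply, hτ, ht])
    refine Set.mem_iUnion.2 ⟨⟨s, hs⟩, z, ?_, hz⟩
    show p₂ ⟨s, hs⟩ z ∈ C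
    rw [show p₂ ⟨s, hs⟩ z = y from hz]; exact hy
  · obtain ⟨s, z, hz, rfl⟩ := Set.mem_iUnion.1 hy
    exact hz

end Groth.Agent.SubmFinFibre
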